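import Cfsg.Agent.H21.Mod3

/-! Brauer character of an arbitrary finite-dimensional module over the residue field `kk M`:
a class function `β` with `ev β e = rank of the reduced idempotent` for all integral
idempotents `e`. -/

set_option autoImplicit false

open Cfsg MonoidAlgebra H5 H7 H8 H21 Finset Module

namespace H0.BC

section Lin

variable {k X : Type*} [Field k] [AddCommGroup X] [Module k X] [FiniteDimensional k X]

/-- rank of an endomorphism -/
noncomputable def rnk (a : End k X) : ℕ := finrank k (LinearMap.range a)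

theorem rnk_mul_left (a b : End k X) : rnk (a * b) ≤ rnk a :=
  Submodule.finrank_mono (LinearMap.range_comp_le_range b a)

theorem rnk_mul_right (a b : End k X) : rnk (a * b) ≤ rnk b := by
  unfold rnk
  rw [End.mul_eq_comp, LinearMap.range_comp]
  exact Submodule.finrank_map_le _ _

theorem rnk_le (a : End k X) : rnk a ≤ finrank k X := Submodule.finrank_le _

omit [FiniteDimensional k X] in
theorem rnk_zero : rnk (0 : End k X) = 0 := by
  unfold rnk
  rw [LinearMap.range_zero, finrank_bot]

omit [FiniteDimensional k X] in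
theorem rnk_one : rnk (1 : End k X) = finrank k X := by
  unfold rnk
  rw [End.one_eq_id, LinearMap.range_id, finrank_top]

theorem mvn_aux {R : Type*} [Ring R] {e f x y : R} (he : e * e = e)
    (hu : IsUnit (e * x * f * y + (1 - e))) : ∃ v, e = (e * x) * (f * v) := by
  obtain ⟨u, hu⟩ := hu
  have h1 : e * u = e * x * f * y := by
    rw [hu, mul_add, mul_sub, mul_one, he, sub_self, add_zero, ← mul_assoc, ← mul_assoc,
      ← mul_assoc, he]
  exact ⟨y * ↑u⁻¹, by rw [← mul_assoc, ← mul_assoc, ← h1, mul_assoc, Units.mul_inv, mul_one]⟩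

theorem rnk_le_of_unit {e f x y : End k X} (he : e * e = e)
    (hu : IsUnit (e * x * f * y + (1 - e))) : rnk e ≤ rnk f := by
  obtain ⟨v, h2⟩ := mvn_aux he hu
  calc rnk e = rnk ((e * x) * (f * v)) := congrArg rnk h2
    _ ≤ rnk (f * v) := rnk_mul_right _ _
    _ ≤ rnk f := rnk_mul_left _ _

theorem rnk_add {e f : End k X} (he : e * e = e) (hf : f * f = f) (h1 : e * f = 0)
    (h2 : f * e = 0) : rnk (e + f) = rnk e + rnk f := by
  have hs : LinearMap.range (e + f) = LinearMap.range e ⊔ LinearMap.range f := by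
    apply le_antisymm
    · rintro _ ⟨v, rfl⟩
      exact Submodule.add_mem_sup ⟨v, rfl⟩ ⟨v, rfl⟩
    · refine sup_le ?_ ?_
      · rintro _ ⟨v, rfl⟩
        refine ⟨e v, ?_⟩
        have a := congrArg (· v) he
        have b := congrArg (· v) h2
        simp only [End.mul_apply, LinearMap.zero_apply] at a b
        rw [LinearMap.add_apply, a, b, add_zero]
      · rintro _ ⟨v, rfl⟩
        refine ⟨f v, ?_⟩
        have a := congrArg (· v) hf
        have b := congrArg (· v) h1
        simp only [End.mul_apply, LinearMap.zero_apply] at a b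
        rw [LinearMap.add_apply, a, b, zero_add]
  have hi : LinearMap.range e ⊓ LinearMap.range f = ⊥ := by
    rw [eq_bot_iff]
    rintro _ ⟨⟨v, rfl⟩, ⟨w, hw⟩⟩
    have a := congrArg (· v) he
    have b := congrArg (· w) h1
    simp only [End.mul_apply, LinearMap.zero_apply] at a b
    rw [Submodule.mem_bot, ← a, ← hw, b]
  have := Submodule.finrank_sup_add_finrank_inf_eq (LinearMap.range e) (LinearMap.range f)
  rw [hi, finrank_bot, add_zero, ← hs] at this
  exact this

end Lin

variable {G : Type*} [Group G] {p : ℕ} {M : Ideal AlgInt}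
variable {X : Type*} [AddCommGroup X] [Module (kk M) X]

/-- the algebra map of a representation -/
noncomputable def lf (ρ : G →* End (kk M) X) : (kk M)[G] →ₐ[kk M] End (kk M) X :=
  MonoidAlgebra.lift (kk M) (End (kk M) X) G ρ

@[simp] theorem lf_single (ρ : G →* End (kk M) X) (g : G) (c : kk M) :
    lf ρ (single g c) = c • ρ g := by simp [lf]

/-- the operator of an integral element of the group algebra -/
noncomputable def op (ρ : G →* End (kk M) X) (e : ℂ[G]) : End (kk M) X := lf ρ (redG M e)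

theorem op_mul (ρ : G →* End (kk M) X) {a b : ℂ[G]} (ha : a ∈ VG M G) (hb : b ∈ VG M G) :
    op ρ (a * b) = op ρ a * op ρ b := by rw [op, redG_mul ha hb, map_mul]; rfl

theorem op_add (ρ : G →* End (kk M) X) {a b : ℂ[G]} (ha : a ∈ VG M G) (hb : b ∈ VG M G) :
    op ρ (a + b) = op ρ a + op ρ b := by rw [op, redG_add ha hb, map_add]; rfl

theorem op_sub (ρ : G →* End (kk M) X) {a b : ℂ[G]} (ha : a ∈ VG M G) (hb : b ∈ VG M G) :
    op ρ (a - b) = op ρ a - op ρ b := by rw [op, redG_sub ha hb, map_sub]; rfl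

theorem op_one (ρ : G →* End (kk M) X) : op ρ 1 = 1 := by rw [op, redG_one, map_one]

theorem op_zero (ρ : G →* End (kk M) X) : op ρ 0 = 0 := by rw [op, redG_zero, map_zero]

theorem op_single (ρ : G →* End (kk M) X) (g : G) (c : ℂ) :
    op ρ (single g c) = red M c • ρ g := by rw [op, redG_single, lf_single]

theorem op_sum (ρ : G →* End (kk M) X) {ι : Type*} (s : Finset ι) (f : ι → ℂ[G])
    (h : ∀ i ∈ s, f i ∈ VG M G) : op ρ (∑ i ∈ s, f i) = ∑ i ∈ s, op ρ (f i) := by
  rw [op, redG_sum s f h, map_sum]; rfl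

variable [FiniteDimensional (kk M) X] [Finite G]

theorem rnk_le_of_mvn (ρ : G →* End (kk M) X) {W : Wed G M} {e f : ℂ[G]} {x y : W.A}
    (he : W.Lift e (x * y)) (hf : W.Lift f (y * x)) : rnk (op ρ e) ≤ rnk (op ρ f) := by
  have h1 := he.idem'.eq
  obtain ⟨x, rfl⟩ := W.surj x
  obtain ⟨y, rfl⟩ := W.surj y
  have hee : op ρ e * op ρ e = op ρ e := by rw [← op_mul ρ he.mem he.mem, he.idem.eq]
  refine rnk_le_of_unit (x := lf ρ x) (y := lf ρ y) hee ?_
  have hn : IsNilpotent (redG M e * x * redG M f * y + (1 - redG M e) - 1) := by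
    refine W.nil _ ?_
    simp only [map_sub, map_add, map_mul, map_one, he.red, hf.red, mul_assoc] at h1 ⊢
    rw [h1, h1]; abel
  have := (hn.isUnit_add_one).map (lf ρ)
  simpa [op] using this

theorem rnk_eq_sum (ρ : G →* End (kk M) X) {W : Wed G M} {e : ℂ[G]} {a : W.A}
    (he : W.Lift e a) : rnk (op ρ e) = ∑ j, (a j).rank * rnk (op ρ (W.i j)) := by
  induction h : ∑ j, (a j).rank using Nat.strong_induction_on generalizing e a with | _ N ih =>
  by_cases h0 : a = 0
  · subst h0
    have := rnk_le_of_mvn ρ (x := 0) (y := 0) (e := e) (f := 0) (by simpa using he)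
      (by simpa using Wed.lift_zero)
    rw [op_zero, rnk_zero] at this
    simpa using this
  obtain ⟨j, hj⟩ := Function.ne_iff.1 h0
  have ha := he.idem'.eq
  obtain ⟨x, y, h1, h2, h3, h4, h5⟩ := exists_rank_one_of_idem (congrFun ha j) hj (W.o j)
  have hb : IsIdempotentElem (Pi.single j (x * y) : W.A) := by
    rw [IsIdempotentElem, ← Pi.single_mul, h4]
  have e1 : a * Pi.single j (x * y) = Pi.single j (x * y) := by
    rw [← Pi.single_mul_right, ← mul_assoc, h2]
  have e2 : Pi.single j (x * y) * a = Pi.single j (x * y) := by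
    rw [← Pi.single_mul_left, mul_assoc, h3]
  obtain ⟨f, hf, h6, h7⟩ := he.exists_sub hb e1 e2
  have hg : W.Lift (e - f) (a - Pi.single j (x * y)) := by
    have := he.mul hf.one_sub ((Commute.one_right e).sub_right (h6.trans h7.symm))
    rwa [mul_sub, mul_sub, mul_one, mul_one, h6, e1] at this
  have hr : ∀ l, (a l).rank = ((a - Pi.single j (x * y) : W.A) l).rank + (W.E j l).rank := by
    intro l
    by_cases hl : l = j
    · subst hl
      have := rank_add_of_orth (congrFun hg.idem'.eq l) h4 ?_ ?_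
      · simpa [Wed.rank_E, h5] using this
      · have := congrFun e2 l
        simp_all [sub_mul, ← mul_assoc]
      · have := congrFun e2 l
        simp_all [mul_sub, mul_assoc]
    · simp [Wed.rank_E, hl]
  have hf' : W.Lift f (Pi.single j x * Pi.single j y) := by rwa [← Pi.single_mul]
  have hi' : W.Lift (W.i j) (Pi.single j y * Pi.single j x) := by
    rw [← Pi.single_mul, h1]; exact W.lift_i j
  have h8 : rnk (op ρ f) = rnk (op ρ (W.i j)) :=
    le_antisymm (rnk_le_of_mvn ρ hf' hi') (rnk_le_of_mvn ρ hi' hf')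
  have h9 := ih _ (by rw [← h, sum_congr rfl fun l _ => hr l, sum_add_distrib]; simp [Wed.rank_E])
    hg rfl
  have h10 : rnk (op ρ e) = rnk (op ρ (e - f)) + rnk (op ρ f) := by
    rw [← rnk_add, ← op_add ρ hg.mem hf.mem, sub_add_cancel]
    · rw [← op_mul ρ hg.mem hg.mem, hg.idem.eq]
    · rw [← op_mul ρ hf.mem hf.mem, hf.idem.eq]
    · rw [← op_mul ρ hg.mem hf.mem, sub_mul, h6, hf.idem.eq, sub_self, op_zero]
    · rw [← op_mul ρ hf.mem hg.mem, mul_sub, h7, hf.idem.eq, sub_self, op_zero]
  rw [h10, h9, h8]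
  simp [hr, Wed.rank_E, add_mul, sum_add_distrib]

/-- `β` is a Brauer character of `ρ`. -/
structure IsBC (ρ : G →* End (kk M) X) (β : G → ℂ) : Prop where
  cl : IsClassFunction G β
  ev : ∀ e ∈ VG M G, IsIdempotentElem e → ev β e = rnk (op ρ e)

theorem exists_bc (hM : IsPModular p M) (ρ : G →* End (kk M) X) :
    ∃ β, IsBC ρ β ∧ ∀ g, p ∣ orderOf g → β g = 0 := by
  obtain ⟨W⟩ := exists_wed G M
  refine ⟨∑ j, (rnk (op ρ (W.i j)) : ℂ) • W.φ hM j, ⟨fun g x => ?_, fun e he hi => ?_⟩,
    fun g hg => ?_⟩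
  · simp only [Finset.sum_apply, Pi.smul_apply]
    exact sum_congr rfl fun j _ => by rw [W.isClassFunction_φ hM j g x]
  · have hl : W.Lift e (W.π (redG M e)) := ⟨he, hi, rfl⟩
    rw [rnk_eq_sum ρ hl, ev_sum_left]
    push_cast
    refine sum_congr rfl fun j _ => ?_
    rw [ev_smul_left, hl.ev_φ hM j, mul_comm]
  · simp only [Finset.sum_apply, Pi.smul_apply]
    refine sum_eq_zero fun j _ => ?_
    rw [← W.rp_φ hM j]
    simp [pRegularPart, IsPRegular, hg]

end H0.BC
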