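import Cfsg.Agent.H0.BC.A

/-! Consequences of `IsBC`: restriction, quasi-idempotents, diagonalisable elements. -/

set_option autoImplicit false

open Cfsg MonoidAlgebra H5 H7 H8 H21 Finset Module

namespace H0.BC

variable {G : Type*} [Group G] {p : ℕ} {M : Ideal AlgInt}
variable {X : Type*} [AddCommGroup X] [Module (kk M) X]

theorem mem_V_of_pow {z : ℂ} {l : ℕ} (hl : l ≠ 0) (h : z ^ l = 1) : z ∈ V M :=
  mem_V_of_isIntegral M (IsIntegral.of_pow (Nat.pos_of_ne_zero hl) (h ▸ isIntegral_one))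

theorem natCast_ne (hM : IsPModular p M) {n : ℕ} (hn : ¬ p ∣ n) : (n : kk M) ≠ 0 := by
  haveI := charP_kk hM
  exact fun h => hn ((CharP.cast_eq_zero_iff _ p n).1 h)

theorem red_prim (hM : IsPModular p M) {l : ℕ} (hl : ¬ p ∣ l) {ζ : ℂ} (hζ : IsPrimitiveRoot ζ l) :
    IsPrimitiveRoot (red M ζ) l := by
  have l0 : l ≠ 0 := fun h => hl (h ▸ dvd_zero p)
  have hV : ζ ∈ V M := mem_V_of_pow l0 hζ.pow_eq_one
  obtain ⟨n, rfl⟩ := Nat.exists_eq_succ_of_ne_zero l0
  refine IsPrimitiveRoot.mk_of_lt _ (Nat.succ_pos n)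
    (by rw [← red_pow hV, hζ.pow_eq_one, red_one]) fun k k0 hk e => ?_
  have h1 := congrArg (red M) hζ.prod_one_sub_pow_eq_order
  rw [red_prod _ _ fun i _ => sub_mem (one_mem _) (pow_mem hV _),
    prod_eq_zero (i := k - 1) (by simp; omega)
      (by rw [red_sub (one_mem _) (pow_mem hV _), red_pow hV, show k - 1 + 1 = k by omega, e,
        red_one, sub_self]), ← Nat.cast_succ, red_natCast] at h1
  exact natCast_ne hM hl h1.symm

theorem op_smul (ρ : G →* End (kk M) X) {c : ℂ} (hc : c ∈ V M) {a : ℂ[G]} (ha : a ∈ VG M G) :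
    op ρ (c • a) = red M c • op ρ a := by rw [op, redG_smul hc ha, map_smul]; rfl

theorem op_push {A : Type*} [Group A] [Finite A] (f : A →* G) (ρ : G →* End (kk M) X) {a : ℂ[A]}
    (ha : a ∈ VG M A) : op ρ (push f a) = op (ρ.comp f) a := by
  rw [op, redG_push f ha, op]
  induction redG M a using MonoidAlgebra.induction_linear with
  | zero => simp
  | add x y hx hy => simp only [map_add, hx, hy]
  | single g c => simp

theorem rnk_smul {k X : Type*} [Field k] [AddCommGroup X] [Module k X] {c : k} (hc : c ≠ 0)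
    (a : End k X) : rnk (c • a) = rnk a := by
  unfold rnk
  rw [LinearMap.range_smul _ _ hc]

theorem rnk_diag {k X ι : Type*} [Field k] [AddCommGroup X] [Module k X] [Fintype ι]
    (b : Basis ι k X) {a : End k X} {c : k} (hc : c ≠ 0) (P : ι → Prop) [DecidablePred P]
    (h : ∀ i, a (b i) = if P i then c • b i else 0) : rnk a = #{i | P i} := by
  have h1 : LinearMap.range a = Submodule.span k (Set.range fun i : {i // P i} => b i) := by
    apply le_antisymm
    · rw [LinearMap.range_eq_map, ← b.span_eq, Submodule.map_span_le]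
      rintro _ ⟨i, rfl⟩
      rw [h]
      split_ifs with hi
      · exact Submodule.smul_mem _ _ (Submodule.subset_span ⟨⟨i, hi⟩, rfl⟩)
      · exact zero_mem _
    · rw [Submodule.span_le]
      rintro _ ⟨⟨i, hi⟩, rfl⟩
      refine ⟨c⁻¹ • b i, ?_⟩
      rw [map_smul, h, if_pos hi, smul_smul, inv_mul_cancel₀ hc, one_smul]
  unfold rnk
  rw [h1, ← Fintype.card_subtype]
  exact finrank_span_eq_card (b.linearIndependent.comp _ Subtype.val_injective)

variable [FiniteDimensional (kk M) X] {ρ : G →* End (kk M) X} {β : G → ℂ}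

omit [FiniteDimensional (kk M) X] in
theorem IsBC.comp (h : IsBC ρ β) {A : Type*} [Group A] [Finite A] (f : A →* G) :
    IsBC (ρ.comp f) (fun a => β (f a)) where
  cl g x := by simp only [map_mul, map_inv]; exact h.cl _ _
  ev e he hi := by
    rw [← ev_push, h.ev _ (push_mem_VG f he) (hi.map _), op_push f ρ he]

omit [FiniteDimensional (kk M) X] in
theorem IsBC.one (h : IsBC ρ β) : β 1 = finrank (kk M) X := by
  rw [← ev_one β, h.ev 1 (one_mem _) .one, op_one, rnk_one]

omit [FiniteDimensional (kk M) X] in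
/-- quasi-idempotents -/
theorem IsBC.quasi (h : IsBC ρ β) (hM : IsPModular p M) {e : ℂ[G]} (he : e ∈ VG M G) {n : ℕ}
    (hn : ¬ p ∣ n) (h2 : e * e = (n : ℂ) • e) : H7.ev β e = n * rnk (op ρ e) := by
  have n0 : (n : ℂ) ≠ 0 := by
    rintro h0
    rw [Nat.cast_eq_zero] at h0
    exact hn (h0 ▸ dvd_zero p)
  have hv := (val_natCast_eq_one_iff hM n).2 hn
  have hV := inv_mem_V_of_val_eq_one hv
  have := h.ev ((n : ℂ)⁻¹ • e) (smul_mem_VG hV he) (by
    rw [IsIdempotentElem, smul_mul_smul_comm, h2, smul_smul, inv_mul_cancel_right₀ n0])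
  rw [map_smul, op_smul ρ hV he, rnk_smul (by
    rw [red_inv hv, red_natCast]; exact inv_ne_zero (natCast_ne hM hn)), smul_eq_mul] at this
  rw [← this, mul_inv_cancel_left₀ n0]

omit [FiniteDimensional (kk M) X] in
/-- an element of the group algebra on which the group elements involved act as scalars -/
theorem IsBC.eigen (h : IsBC ρ β) (hM : IsPModular p M) {ι : Type*} (s : Finset ι) (g : ι → G)
    (c d : ι → ℂ) (hc : ∀ i ∈ s, c i ∈ V M) {n : ℕ} (hn : ¬ p ∣ n)
    (h1 : ∀ i ∈ s, single (g i) (1 : ℂ) * ∑ j ∈ s, single (g j) (c j) =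
      d i • ∑ j ∈ s, single (g j) (c j)) (h2 : ∑ i ∈ s, c i * d i = n) :
    ∑ i ∈ s, c i * β (g i) = n * rnk (∑ i ∈ s, red M (c i) • ρ (g i)) := by
  have := h.quasi hM (e := ∑ j ∈ s, single (g j) (c j))
    (sum_mem fun i hi => single_mem_VG _ (hc i hi)) hn (by
      rw [← h2, sum_smul]
      nth_rw 1 [sum_mul]
      refine sum_congr rfl fun i hi => ?_
      rw [mul_smul, ← h1 i hi, ← smul_mul_assoc, smul_single, smul_eq_mul, mul_one])
  rw [op_sum ρ _ _ fun i hi => single_mem_VG _ (hc i hi), map_sum] at this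
  simpa only [ev_single, op_single] using this

omit [FiniteDimensional (kk M) X] in
/-- weight-space multiplicity for a finite group `A` of order prime to `p` -/
theorem IsBC.lin (h : IsBC ρ β) (hM : IsPModular p M) {A : Type*} [Group A] [Fintype A]
    (hA : ¬ p ∣ Fintype.card A) (f : A →* G) (l : A →* ℂ) :
    ∑ a, l a * β (f a) = Fintype.card A * rnk (∑ a, red M (l a) • ρ (f a)) := by
  refine h.eigen hM univ f l (fun a => l a⁻¹) (fun a _ => mem_V_of_pow (l := Fintype.card A)
    Fintype.card_ne_zero (by rw [← map_pow, pow_card_eq_one, map_one])) hA (fun a _ => ?_)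
    (by simp only [← map_mul, mul_inv_cancel, map_one]; simp)
  rw [mul_sum, smul_sum]
  refine Fintype.sum_equiv (Equiv.mulLeft a) _ _ fun x => ?_
  simp only [single_mul_single, ← map_mul, Equiv.coe_mulLeft, smul_single, smul_eq_mul, one_mul,
    inv_mul_cancel_left]

omit [FiniteDimensional (kk M) X] in
theorem IsBC.wts (h : IsBC ρ β) (hM : IsPModular p M) {A : Type*} [AddCommGroup A] [Fintype A]
    (hA : ¬ p ∣ Fintype.card A) (f : AddChar A G) {ι : Type*} [Fintype ι] (b : Basis ι (kk M) X)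
    (χ : ι → AddChar A ℂ) (hb : ∀ a i, ρ (f a) (b i) = red M (χ i a) • b i) (x : A) :
    β (f x) = ∑ i, χ i x := by
  classical
  have hV : ∀ (ψ : AddChar A ℂ) a, ψ a ∈ V M := fun ψ a => mem_V_of_pow (l := Fintype.card A)
    Fintype.card_ne_zero (by rw [← AddChar.map_nsmul_eq_pow, card_nsmul_eq_zero, ψ.map_zero_eq_one])
  have key : ∀ ψ : AddChar A ℂ, ∑ a, ψ a * β (f a) = ∑ a, ψ a * ∑ i, χ i a := fun ψ => by
    have h1 := h.lin hM (A := Multiplicative A) (by simpa using hA) f.toMonoidHom ψ.toMonoidHom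
    rw [rnk_diag b (natCast_ne hM hA) (fun i => ψ + χ i = 0) fun i => ?_] at h1
    · refine (Fintype.sum_equiv Multiplicative.ofAdd _ _ fun a => rfl).trans (h1.trans ?_)
      simp only [mul_sum]
      rw [sum_comm]
      simp only [← AddChar.add_apply, AddChar.sum_eq_ite]
      simp [sum_ite, mul_comm]
    · have : ∀ a : Multiplicative A, (red M (ψ.toMonoidHom a) • ρ (f.toMonoidHom a)) (b i) =
          red M ((ψ + χ i) a.toAdd) • b i := fun a => by
        rw [LinearMap.smul_apply, AddChar.add_apply, red_mul (hV _ _) (hV _ _), mul_smul, ← hb]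
        rfl
      rw [LinearMap.sum_apply, sum_congr rfl fun a _ => this a, ← sum_smul,
        ← red_sum _ _ fun a _ => hV _ _,
        Fintype.sum_equiv Multiplicative.toAdd _ (fun a => (ψ + χ i) a) fun a => rfl,
        AddChar.sum_eq_ite]
      split_ifs <;> simp
  have inv : ∀ F : A → ℂ, ∑ ψ : AddChar A ℂ, ψ (-x) * ∑ a, ψ a * F a = Fintype.card A * F x :=
    fun F => by
      simp only [mul_sum, ← mul_assoc, ← AddChar.map_add_eq_mul]
      rw [sum_comm]
      simp only [← sum_mul, AddChar.sum_apply_eq_ite, neg_add_eq_zero]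
      simp
  have := inv fun a => β (f a)
  simp only [key] at this
  rw [inv] at this
  exact (mul_left_cancel₀ (Nat.cast_ne_zero.2 Fintype.card_ne_zero) this).symm

/-- the powers of an element of finite order -/
def powChar {Γ : Type*} [Monoid Γ] (l : ℕ) [NeZero l] (g : Γ) (hg : g ^ l = 1) :
    AddChar (ZMod l) Γ where
  toFun a := g ^ a.val
  map_zero_eq_one' := by simp
  map_add_eq_mul' a b := by rw [ZMod.val_add, ← pow_add, ← pow_eq_pow_mod _ hg]

omit [FiniteDimensional (kk M) X] in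
/-- the Brauer character of a diagonalisable element is the sum of the lifted eigenvalues -/
theorem IsBC.cyc (h : IsBC ρ β) (hM : IsPModular p M) {l : ℕ} (hl : ¬ p ∣ l) {g : G}
    (hg : g ^ l = 1) {ι : Type*} [Fintype ι] (b : Basis ι (kk M) X) (μ : ι → ℂ)
    (hμ : ∀ i, μ i ^ l = 1) (hb : ∀ i, ρ g (b i) = red M (μ i) • b i) (k : ℕ) :
    β (g ^ k) = ∑ i, μ i ^ k := by
  have l0 : l ≠ 0 := fun h => hl (h ▸ dvd_zero p)
  haveI := NeZero.mk l0
  have := h.wts hM (A := ZMod l) (by simpa using hl) (powChar l g hg) b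
    (fun i => powChar l (μ i) (hμ i)) (fun a i => ?_) (k : ZMod l)
  · simp only [powChar, AddChar.coe_mk, ZMod.val_natCast, ← pow_eq_pow_mod _ hg,
      ← pow_eq_pow_mod _ (hμ _)] at this
    exact this
  · simp only [powChar, AddChar.coe_mk]
    rw [map_pow, red_pow (mem_V_of_pow l0 (hμ i))]
    induction a.val with
    | zero => simp
    | succ n ih => rw [pow_succ, End.mul_apply, hb, map_smul, ih, smul_smul, pow_succ']

end H0.BC
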